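import Cfsg.Agent.CharBasics.Central
import Cfsg.Agent.CharBasics.Extra
import Cfsg.Agent.Clifford.InertiaAbelian
import Cfsg.Agent.Clifford.RepBasic
import Cfsg.Agent.RankOneP.Basic

/-!
# Finite `p`-groups in which characters of equal degree are Galois conjugate

For a central subgroup `⟨n⟩` of order `p` the quotient has derived group of order `p`; comparing degrees with the
index of the centre forces the derived group of the group itself to have order `p`.
-/

set_option autoImplicit false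
set_option linter.unusedSectionVars false
set_option linter.style.haveILetI false

namespace CfsgLib.GaloisDegree

open Cfsg CfsgLib.CharBasics
open scoped ComplexConjugate commutatorElement

universe u

variable {G : Type u} [Group G]

/-- Nonlinear characters of equal degree are Galois conjugate. -/
def GalProp (G : Type u) [Group G] : Prop :=
  ∀ χ ψ : IrrCharacter G, charDegree (χ : G → ℂ) ≠ 1 → charDegree (χ : G → ℂ) = charDegree (ψ : G → ℂ) →
    ∃ k : ℕ, Nat.Coprime k (Nat.card G) ∧ ∀ g : G, (ψ : G → ℂ) g = (χ : G → ℂ) (g ^ k)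

theorem le_center_of_card_prime [Finite G] {p : ℕ} [hp : Fact p.Prime] (hG : IsPGroup p G) (N : Subgroup G)
    [N.Normal] (hN : Nat.card N = p) : N ≤ Subgroup.center G := by
  have hG' : IsPGroup p (ConjAct G) := hG.of_equiv ConjAct.toConjAct
  have h1 : (1 : N) ∈ MulAction.fixedPoints (ConjAct G) N := fun g => smul_one g
  obtain ⟨b, hb, hb1⟩ := hG'.exists_fixed_point_of_prime_dvd_card_of_fixed_point N (hN ▸ dvd_rfl) h1
  have hbc : (b : G) ∈ Subgroup.center G := Subgroup.mem_center_iff.2 fun g => by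
    have := congrArg Subtype.val (hb (ConjAct.toConjAct g))
    rw [ConjAct.Subgroup.val_conj_smul, ConjAct.toConjAct_smul] at this
    exact mul_inv_eq_iff_eq_mul.1 this
  intro x hx
  have hgen := mem_zpowers_of_prime_card hN (g := b) (g' := ⟨x, hx⟩) (Ne.symm hb1)
  obtain ⟨i, hi⟩ := hgen
  rw [show x = (b : G) ^ i by simpa using (congrArg Subtype.val hi).symm]
  exact Subgroup.zpow_mem _ hbc i

theorem exists_apply_ne [Finite G] {n : G} (hn : n ≠ 1) :
    ∃ χ : IrrCharacter G, (χ : G → ℂ) n ≠ (χ : G → ℂ) 1 := by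
  classical
  haveI := Fintype.ofFinite G
  haveI := finite_irrCharacter (G := G)
  haveI := Fintype.ofFinite (IrrCharacter G)
  by_contra h
  push Not at h
  have h1 := sum_col n (1 : G)
  rw [if_neg (fun hc => hn (isConj_one_left.1 hc))] at h1
  simp only [h, apply_one (isCharacter_of_irr (Subtype.prop _)), Complex.conj_natCast, ← Nat.cast_mul] at h1
  have h2 : ∑ χ : IrrCharacter G, charDegree (χ : G → ℂ) * charDegree (χ : G → ℂ) = 0 := by
    rw [← Nat.cast_sum] at h1; exact_mod_cast h1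
  have h3 := (Finset.sum_eq_zero_iff.1 h2) oneChar (Finset.mem_univ _)
  exact absurd h3 (Nat.mul_pos (charDegree_pos oneChar.2) (charDegree_pos oneChar.2)).ne'

theorem apply_commutator_of_linear [Finite G] {χ : G → ℂ} (h : IsIrrCharacter G χ) (h1 : charDegree χ = 1)
    {c : G} (hc : c ∈ commutator G) : χ c = χ 1 := by
  have hc' := isCharacter_of_irr h
  have hle : commutator G ≤ charKer χ hc' := by
    rw [commutator_def, Subgroup.commutator_le]
    intro a _ b _
    have hone : χ 1 = 1 := by rw [apply_one hc', h1, Nat.cast_one]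
    obtain ⟨f, rfl⟩ := Clifford.exists_hom_of_linear hc' hone
    show f ⁅a, b⁆ = f 1
    have : f.toHomUnits ⁅a, b⁆ = 1 := by
      rw [map_commutatorElement, commutatorElement_eq_one_iff_mul_comm, mul_comm]
    rw [map_one]
    exact (MonoidHom.coe_toHomUnits f ⁅a, b⁆).symm.trans (by rw [this]; rfl)
  exact hle hc

theorem nonlinear_iff [Finite G] {χ : G → ℂ} (h : IsIrrCharacter G χ) :
    charDegree χ ≠ 1 ↔ ∃ c ∈ commutator G, χ c ≠ χ 1 := by
  constructor
  · intro h1
    by_contra hcon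
    push Not at hcon
    have h2 := Clifford.apply_one_eq_one_of_commutators h fun x y =>
      hcon _ (by rw [commutator_def]; exact Subgroup.commutator_mem_commutator (Subgroup.mem_top x) (Subgroup.mem_top y))
    rw [apply_one (isCharacter_of_irr h)] at h2
    exact h1 (by exact_mod_cast h2)
  · rintro ⟨c, hc, hne⟩ h1
    exact hne (apply_commutator_of_linear h h1 hc)

theorem eq_zero_of_conj_central [Finite G] {χ : G → ℂ} (h : IsIrrCharacter G χ) {z g : G}
    (hz : z ∈ Subgroup.center G) (hne : χ z ≠ χ 1) (hc : IsConj g (z * g)) : χ g = 0 := by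
  have h1 := center_mul h hz g
  rw [← apply_isConj (isCharacter_of_irr h) hc] at h1
  by_contra h0
  exact hne (mul_right_cancel₀ h0 h1).symm

theorem center_normSq [Finite G] {χ : G → ℂ} (h : IsIrrCharacter G χ) {z : G} (hz : z ∈ Subgroup.center G) :
    χ z * conj (χ z) = χ 1 * χ 1 := by
  rw [← apply_inv (isCharacter_of_irr h) z, ← center_mul h hz z⁻¹, mul_inv_cancel]

theorem degree_sq_of_vanish [Finite G] {χ : G → ℂ} (h : IsIrrCharacter G χ)
    (hv : ∀ g : G, g ∉ Subgroup.center G → χ g = 0) : charDegree χ ^ 2 = (Subgroup.center G).index := by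
  classical
  haveI := Fintype.ofFinite G
  have h1 := classInner_self h
  rw [classInner_eq, ← Finset.sum_filter_of_ne (p := fun g => g ∈ Subgroup.center G) (fun g _ hg => by
    by_contra hgz; exact hg (by rw [hv g hgz, zero_mul])),
    Finset.sum_congr rfl (g := fun _ => χ 1 * χ 1) (fun g hg => center_normSq h (Finset.mem_filter.1 hg).2),
    Finset.sum_const, nsmul_eq_mul, ← Fintype.card_subtype, ← Nat.card_eq_fintype_card,
    apply_one (isCharacter_of_irr h), inv_mul_eq_one₀ (Nat.cast_ne_zero.2 Nat.card_pos.ne')] at h1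
  have h2 : Nat.card G = Nat.card (Subgroup.center G) * (charDegree χ * charDegree χ) := by exact_mod_cast h1
  rw [← Subgroup.card_mul_index (Subgroup.center G)] at h2
  rw [sq]
  exact (Nat.eq_of_mul_eq_mul_left Nat.card_pos h2).symm

theorem derived_prime_facts [Finite G] {p : ℕ} [hp : Fact p.Prime] (hG : IsPGroup p G)
    (hcard : Nat.card (commutator G) = p) :
    commutator G ≤ Subgroup.center G ∧ ∀ χ : IrrCharacter G, charDegree (χ : G → ℂ) ≠ 1 →
      charDegree (χ : G → ℂ) ^ 2 = (Subgroup.center G).index ∧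
        ∀ g : G, g ∉ Subgroup.center G → (χ : G → ℂ) g = 0 := by
  have hle := le_center_of_card_prime hG (commutator G) hcard
  refine ⟨hle, fun χ hχ => ?_⟩
  have hv : ∀ g : G, g ∉ Subgroup.center G → (χ : G → ℂ) g = 0 := by
    intro g hg
    obtain ⟨x, hx⟩ : ∃ x : G, x * g * x⁻¹ * g⁻¹ ≠ 1 := by
      by_contra hcon
      push Not at hcon
      exact hg (Subgroup.mem_center_iff.2 fun x => mul_inv_eq_iff_eq_mul.1 (mul_inv_eq_one.1 (hcon x)))
    have hz : x * g * x⁻¹ * g⁻¹ ∈ commutator G := by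
      rw [commutator_def, ← commutatorElement_def]
      exact Subgroup.commutator_mem_commutator (Subgroup.mem_top x) (Subgroup.mem_top g)
    refine eq_zero_of_conj_central χ.2 (hle hz) (fun hker => ?_) (isConj_iff.2 ⟨x, by simp [mul_assoc]⟩)
    obtain ⟨c, hc, hne⟩ := (nonlinear_iff χ.2).1 hχ
    have hgen := mem_zpowers_of_prime_card hcard (g := (⟨_, hz⟩ : commutator G)) (g' := ⟨c, hc⟩)
      (fun e => hx (congrArg Subtype.val e))
    obtain ⟨i, hi⟩ := hgen
    have hi' : (x * g * x⁻¹ * g⁻¹) ^ i = c := congrArg Subtype.val hi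
    exact hne (hi' ▸ Subgroup.zpow_mem (charKer _ (isCharacter_of_irr χ.2)) hker i)
  exact ⟨degree_sq_of_vanish χ.2 hv, hv⟩

theorem GalProp.quotient [Finite G] (h : GalProp G) (N : Subgroup G) [N.Normal] : GalProp (G ⧸ N) := by
  intro χ ψ hd hdd
  let inf : IrrCharacter (G ⧸ N) → IrrCharacter G := fun φ =>
    ⟨_, irr_comp_of_surjective φ.2 (QuotientGroup.mk' N) (QuotientGroup.mk'_surjective N)⟩
  have hdeg : ∀ φ, charDegree (inf φ : G → ℂ) = charDegree (φ : G ⧸ N → ℂ) := fun φ => by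
    show charDegree (fun g : G => (φ : G ⧸ N → ℂ) (QuotientGroup.mk' N g)) = _
    simp [charDegree]
  obtain ⟨k, hk, hkg⟩ := h (inf χ) (inf ψ) (by rwa [hdeg]) (by rwa [hdeg, hdeg])
  refine ⟨k, hk.coprime_dvd_right (Subgroup.card_quotient_dvd_card N), fun q => ?_⟩
  obtain ⟨g, rfl⟩ := QuotientGroup.mk_surjective q
  exact hkg g

theorem commutator_ne_bot (hna : ¬ ∀ a b : G, a * b = b * a) : commutator G ≠ ⊥ := by
  intro h
  refine hna fun a b => commutatorElement_eq_one_iff_mul_comm.1 ?_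
  rw [← Subgroup.mem_bot, ← h, commutator_def]
  exact Subgroup.commutator_mem_commutator (Subgroup.mem_top a) (Subgroup.mem_top b)

theorem commutator_quotient (N : Subgroup G) [N.Normal] :
    commutator (G ⧸ N) = (commutator G).map (QuotientGroup.mk' N) := by
  rw [commutator_def, commutator_def, Subgroup.map_commutator,
    Subgroup.map_top_of_surjective _ (QuotientGroup.mk'_surjective N)]

theorem center_cyclic [Finite G] {p : ℕ} [hp : Fact p.Prime] (hG : IsPGroup p G) (hgal : GalProp G)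
    (hcard : Nat.card (commutator G) = p) : IsCyclic (Subgroup.center G) := by
  classical
  refine RankOneP.isCyclic_of_commute (hG.to_subgroup _) ?_
    (fun x y => Subtype.ext (Subgroup.mem_center_iff.1 x.2 y).symm)
  have key : ∀ z : G, z ∈ Subgroup.center G → z ^ p = 1 → z ∈ commutator G := by
    intro z hz hzp
    by_contra hzc
    have hz1 : z ≠ 1 := fun e => hzc (e ▸ one_mem _)
    haveI : (Subgroup.zpowers z).Normal := ⟨fun y hy g => by
      obtain ⟨i, rfl⟩ := hy
      rw [show g * z ^ i = z ^ i * g from Subgroup.mem_center_iff.1 (Subgroup.zpow_mem _ hz i) g,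
        mul_inv_cancel_right]
      exact ⟨i, rfl⟩⟩
    obtain ⟨c, hc, hc1⟩ := (commutator G).bot_or_exists_ne_one.resolve_left (fun e => by
      rw [e, Subgroup.card_bot] at hcard; exact hp.out.one_lt.ne hcard)
    have hcz : c ∉ Subgroup.zpowers z := by
      intro hcm
      have hgen := mem_zpowers_of_prime_card (G := Subgroup.zpowers z) (p := p)
        (by rw [Nat.card_zpowers]; exact orderOf_eq_prime hzp hz1)
        (g := ⟨c, hcm⟩) (g' := ⟨z, Subgroup.mem_zpowers z⟩) (fun e => hc1 (congrArg Subtype.val e))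
      obtain ⟨i, hi⟩ := hgen
      exact hzc ((show c ^ i = z from congrArg Subtype.val hi) ▸ Subgroup.zpow_mem _ hc i)
    obtain ⟨χq, hχq⟩ := exists_apply_ne (G := G ⧸ Subgroup.zpowers z) (n := (c : G ⧸ Subgroup.zpowers z))
      (fun e => hcz ((QuotientGroup.eq_one_iff c).1 e))
    let χ : IrrCharacter G := ⟨_, irr_comp_of_surjective χq.2 (QuotientGroup.mk' (Subgroup.zpowers z))
      (QuotientGroup.mk'_surjective _)⟩
    have hχz : (χ : G → ℂ) z = (χ : G → ℂ) 1 := by
      show (χq : G ⧸ Subgroup.zpowers z → ℂ) (z : G ⧸ Subgroup.zpowers z) = (χq : G ⧸ Subgroup.zpowers z → ℂ) ((1 : G) : G ⧸ Subgroup.zpowers z)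
      rw [(QuotientGroup.eq_one_iff z).2 (Subgroup.mem_zpowers z), QuotientGroup.mk_one]
    have hd : charDegree (χ : G → ℂ) ≠ 1 := (nonlinear_iff χ.2).2 ⟨c, hc, hχq⟩
    obtain ⟨l, hl⟩ := CommGroup.exists_apply_ne_one_of_hasEnoughRootsOfUnity (Abelianization G) ℂ
      (a := Abelianization.of z) (fun e => hzc (by rw [← Abelianization.ker_of]; exact e))
    let μ : G →* ℂ := (Units.coeHom ℂ).comp (l.comp Abelianization.of)
    let χ' : IrrCharacter G := ⟨_, Clifford.isIrrCharacter_linear_mul χ.2 μ⟩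
    have hd' : charDegree (χ : G → ℂ) = charDegree (χ' : G → ℂ) := by
      show _ = charDegree (fun g => μ g * (χ : G → ℂ) g)
      simp [charDegree]
    obtain ⟨k, -, hkg⟩ := hgal χ χ' hd hd'
    have h1 : μ z * (χ : G → ℂ) z = (χ : G → ℂ) (z ^ k) := hkg z
    have h2 : (χ : G → ℂ) (z ^ k) = (χ : G → ℂ) 1 :=
      Subgroup.pow_mem (charKer _ (isCharacter_of_irr χ.2)) hχz k
    rw [h2, hχz, mul_eq_right₀ (apply_one_ne_zero χ.2)] at h1
    exact hl (Units.ext h1)
  intro x y hx hy hx1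
  have hx' := key x.1 x.2 (congrArg Subtype.val hx)
  have hy' := key y.1 y.2 (congrArg Subtype.val hy)
  obtain ⟨i, hi⟩ := mem_zpowers_of_prime_card hcard (g := (⟨x.1, hx'⟩ : commutator G)) (g' := ⟨y.1, hy'⟩)
    (fun e => hx1 (Subtype.ext (show x.1 = 1 from congrArg Subtype.val e)))
  exact ⟨i, Subtype.ext (show x.1 ^ i = y.1 from congrArg Subtype.val hi)⟩

/-- Data attached to a central subgroup of order `p` with a quotient of derived order `p`. -/
theorem quotient_data [Finite G] {p : ℕ} [hp : Fact p.Prime] (hG : IsPGroup p G) (N : Subgroup G) [N.Normal]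
    (hNc : Nat.card N = p) (hcyc : IsCyclic (Subgroup.center (G ⧸ N))) (hq : Nat.card (commutator (G ⧸ N)) = p) :
    ∃ (χ : IrrCharacter G) (D δ : ℕ), charDegree (χ : G → ℂ) ≠ 1 ∧ charDegree (χ : G → ℂ) = p ^ D ∧
      (∀ n ∈ N, (χ : G → ℂ) n = (χ : G → ℂ) 1) ∧ δ ≤ 1 ∧ (Subgroup.center G).index = p ^ (2 * D + δ) ∧
      ∀ g : G, g ^ p ^ (1 + δ) ∈ Subgroup.center G := by
  have hNZ := le_center_of_card_prime hG N hNc
  have hGq : IsPGroup p (G ⧸ N) := hG.to_quotient N
  obtain ⟨hcl, hdeg⟩ := derived_prime_facts hGq hq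
  obtain ⟨c, hc, hc1⟩ := (commutator (G ⧸ N)).bot_or_exists_ne_one.resolve_left (fun e => by
    rw [e, Subgroup.card_bot] at hq; exact hp.out.one_lt.ne hq)
  obtain ⟨χq, hχq⟩ := exists_apply_ne hc1
  have hdq : charDegree (χq : G ⧸ N → ℂ) ≠ 1 := (nonlinear_iff χq.2).2 ⟨c, hc, hχq⟩
  have hdegq := (hdeg χq hdq).1
  let χ : IrrCharacter G := ⟨_, irr_comp_of_surjective χq.2 (QuotientGroup.mk' N) (QuotientGroup.mk'_surjective _)⟩
  have hd : charDegree (χ : G → ℂ) = charDegree (χq : G ⧸ N → ℂ) := by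
    show charDegree (fun g : G => (χq : G ⧸ N → ℂ) (QuotientGroup.mk' N g)) = _
    simp [charDegree]
  set U := (Subgroup.center (G ⧸ N)).comap (QuotientGroup.mk' N) with hU
  have hUidx : U.index = (Subgroup.center (G ⧸ N)).index :=
    Subgroup.index_comap_of_surjective _ (QuotientGroup.mk'_surjective N)
  have hcommN : ∀ v ∈ U, ∀ y : G, y * v * y⁻¹ * v⁻¹ ∈ N := by
    intro v hv y
    rw [← QuotientGroup.eq_one_iff]
    have h1 : (y : G ⧸ N) * v = v * y := Subgroup.mem_center_iff.1 hv (y : G ⧸ N)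
    simp only [QuotientGroup.mk_mul, QuotientGroup.mk_inv]
    rw [h1]; simp
  have hUp : ∀ v ∈ U, v ^ p ∈ Subgroup.center G := by
    intro v hv
    refine Subgroup.mem_center_iff.2 fun y => mul_inv_eq_iff_eq_mul.1 ?_
    have hm := hcommN v hv y
    have hmc : Commute (y * v * y⁻¹ * v⁻¹) v := (Subgroup.mem_center_iff.1 (hNZ hm) v).symm
    rw [← conj_pow]
    calc (y * v * y⁻¹) ^ p = ((y * v * y⁻¹ * v⁻¹) * v) ^ p := by simp
      _ = (y * v * y⁻¹ * v⁻¹) ^ p * v ^ p := hmc.mul_pow p
      _ = v ^ p := by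
        rw [show (y * v * y⁻¹ * v⁻¹) ^ p = 1 from orderOf_dvd_iff_pow_eq_one.1 (hNc ▸ Subgroup.orderOf_dvd_natCard N hm),
          one_mul]
  have hZU : Subgroup.center G ≤ U := fun v hv => Subgroup.mem_center_iff.2 fun q => by
    obtain ⟨y, rfl⟩ := QuotientGroup.mk_surjective q
    exact congrArg (QuotientGroup.mk' N) (Subgroup.mem_center_iff.1 hv y)
  obtain ⟨w, hw⟩ := hcyc.exists_generator
  obtain ⟨u, hu⟩ := QuotientGroup.mk_surjective (w : G ⧸ N)
  have huU : u ∈ U := by show (u : G ⧸ N) ∈ Subgroup.center (G ⧸ N); rw [hu]; exact w.2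
  have hrel : (Subgroup.center G).relIndex U ∣ p := by
    haveI : ((Subgroup.center G).subgroupOf U).Normal := Subgroup.normal_subgroupOf
    have hgen : ∀ v : U ⧸ (Subgroup.center G).subgroupOf U, v ∈ Subgroup.zpowers
        ((⟨u, huU⟩ : U) : U ⧸ (Subgroup.center G).subgroupOf U) := by
      intro v
      obtain ⟨⟨v, hv⟩, rfl⟩ := QuotientGroup.mk_surjective v
      obtain ⟨i, hi⟩ := hw ⟨(v : G ⧸ N), hv⟩
      have hi' : ((u ^ i : G) : G ⧸ N) = v := by
        rw [QuotientGroup.mk_zpow, hu]; exact congrArg Subtype.val hi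
      refine ⟨i, ?_⟩
      show (((⟨u, huU⟩ : U) : U ⧸ (Subgroup.center G).subgroupOf U)) ^ i = _
      rw [← QuotientGroup.mk_zpow, QuotientGroup.eq, Subgroup.mem_subgroupOf]
      exact hNZ (by simpa using QuotientGroup.eq.1 hi')
    rw [Subgroup.relIndex, Subgroup.index, ← Subgroup.card_top (G := U ⧸ _),
      ← Subgroup.eq_top_iff' _ |>.2 hgen, Nat.card_zpowers]
    refine orderOf_dvd_of_pow_eq_one ?_
    rw [← QuotientGroup.mk_pow, QuotientGroup.eq_one_iff, Subgroup.mem_subgroupOf]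
    exact hUp u huU
  obtain ⟨δ, hδ, hδe⟩ := (Nat.dvd_prime_pow hp.out).1 (by rwa [pow_one] : (Subgroup.center G).relIndex U ∣ p ^ 1)
  obtain ⟨m, hm⟩ := IsPGroup.iff_card.1 hG
  obtain ⟨D, -, hD⟩ := (Nat.dvd_prime_pow hp.out).1 (hm ▸ degree_dvd χ)
  refine ⟨χ, D, δ, hd ▸ hdq, hD, fun n hn => ?_, hδ, ?_, fun g => ?_⟩
  · show (χq : G ⧸ N → ℂ) (n : G ⧸ N) = (χq : G ⧸ N → ℂ) ((1 : G) : G ⧸ N)
    rw [(QuotientGroup.eq_one_iff n).2 hn, QuotientGroup.mk_one]
  · rw [← Subgroup.relIndex_mul_index hZU, hδe, hUidx, ← hdegq, ← hd, hD, ← pow_mul, ← pow_add]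
    congr 1; ring
  · have hgU : g ^ p ∈ U := by
      show ((g ^ p : G) : G ⧸ N) ∈ Subgroup.center (G ⧸ N)
      refine Subgroup.mem_center_iff.2 fun y => mul_inv_eq_iff_eq_mul.1 ?_
      rw [QuotientGroup.mk_pow, ← conj_pow]
      have hcm : y * (g : G ⧸ N) * y⁻¹ * (g : G ⧸ N)⁻¹ ∈ commutator (G ⧸ N) := by
        rw [commutator_def, ← commutatorElement_def]
        exact Subgroup.commutator_mem_commutator (Subgroup.mem_top y) (Subgroup.mem_top _)
      have hmc : Commute (y * (g : G ⧸ N) * y⁻¹ * (g : G ⧸ N)⁻¹) (g : G ⧸ N) :=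
        (Subgroup.mem_center_iff.1 (hcl hcm) _).symm
      calc (y * (g : G ⧸ N) * y⁻¹) ^ p = ((y * (g : G ⧸ N) * y⁻¹ * (g : G ⧸ N)⁻¹) * g) ^ p := by simp
        _ = (y * (g : G ⧸ N) * y⁻¹ * (g : G ⧸ N)⁻¹) ^ p * (g : G ⧸ N) ^ p := hmc.mul_pow p
        _ = (g : G ⧸ N) ^ p := by
          rw [show (y * (g : G ⧸ N) * y⁻¹ * (g : G ⧸ N)⁻¹) ^ p = 1 from
            orderOf_dvd_iff_pow_eq_one.1 (hq ▸ Subgroup.orderOf_dvd_natCard _ hcm), one_mul]
    interval_cases δ
    · rw [pow_zero, Subgroup.relIndex_eq_one] at hδe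
      simpa using hδe hgU
    · rw [show p ^ (1 + 1) = p * p by ring, pow_mul]
      exact hUp _ hgU

/-- The derived group has order `p`. -/
theorem derived_card {p : ℕ} [hp : Fact p.Prime] : ∀ (G : Type u) [Group G] [Finite G], IsPGroup p G →
    GalProp G → (¬ ∀ a b : G, a * b = b * a) → Nat.card (commutator G) = p := by
  suffices h : ∀ (n : ℕ) (G : Type u) [Group G] [Finite G], Nat.card G = n → IsPGroup p G →
      GalProp G → (¬ ∀ a b : G, a * b = b * a) → Nat.card (commutator G) = p from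
    fun G _ _ => h _ G rfl
  intro n
  induction n using Nat.strong_induction_on with
  | _ n ih =>
  intro G _ _ hn hG hgal hna
  classical
  haveI := Fintype.ofFinite G
  by_contra hne
  -- quotient by a central subgroup of order `p`
  have hN : ∀ z : G, z ∈ Subgroup.center G → z ^ p = 1 → z ≠ 1 → ∃ (N : Subgroup G) (_ : N.Normal),
      N = Subgroup.zpowers z ∧ Nat.card N = p ∧ N ≤ commutator G ∧ Nat.card (commutator G) = p * p ∧
        Nat.card (commutator (G ⧸ N)) = p := by
    intro z hz hzp hz1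
    have hcardN : Nat.card (Subgroup.zpowers z) = p := by rw [Nat.card_zpowers]; exact orderOf_eq_prime hzp hz1
    haveI hnorm : (Subgroup.zpowers z).Normal := ⟨fun y hy g => by
      obtain ⟨i, rfl⟩ := hy
      rw [show g * z ^ i = z ^ i * g from Subgroup.mem_center_iff.1 (Subgroup.zpow_mem _ hz i) g,
        mul_inv_cancel_right]
      exact ⟨i, rfl⟩⟩
    set N := Subgroup.zpowers z with hNdef
    have hcb := commutator_ne_bot hna
    have hlt : Nat.card (G ⧸ N) < n := by
      rw [← hn, N.card_eq_card_quotient_mul_card_subgroup, hcardN]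
      exact lt_mul_of_one_lt_right Nat.card_pos hp.out.one_lt
    have hmk : ∀ H : Subgroup G, (H.map (QuotientGroup.mk' N)) = ⊥ → H ≤ N := fun H h x hx => by
      have : (x : G ⧸ N) ∈ H.map (QuotientGroup.mk' N) := ⟨x, hx, rfl⟩
      rw [h, Subgroup.mem_bot] at this
      exact (QuotientGroup.eq_one_iff x).1 this
    have hqna : ¬ ∀ a b : G ⧸ N, a * b = b * a := fun hab => by
      have hb : commutator (G ⧸ N) = ⊥ := by
        rw [commutator_def, eq_bot_iff, Subgroup.commutator_le]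
        intro a _ b _
        rw [Subgroup.mem_bot]
        exact commutatorElement_eq_one_iff_mul_comm.2 (hab a b)
      rw [commutator_quotient] at hb
      have hdvd := Subgroup.card_dvd_of_le (hmk _ hb)
      rw [hcardN] at hdvd
      rcases (Nat.dvd_prime hp.out).1 hdvd with h | h
      · exact hcb (Subgroup.card_eq_one.1 h)
      · exact hne h
    have hq := ih _ hlt (G ⧸ N) rfl (hG.to_quotient N) (hgal.quotient N) hqna
    have hmul : Nat.card (commutator G) = Nat.card (commutator (G ⧸ N)) * Nat.card ↥(N ⊓ commutator G) := by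
      rw [commutator_quotient]
      have h1 := ((QuotientGroup.mk' N).domRestrict (commutator G)).ker.card_eq_card_quotient_mul_card_subgroup
      rw [h1]
      congr 1
      · rw [Nat.card_congr (QuotientGroup.quotientKerEquivRange _).toEquiv, MonoidHom.domRestrict_range]
      · rw [MonoidHom.ker_domRestrict, QuotientGroup.ker_mk']
        rw [← Subgroup.inf_subgroupOf_right]
        exact Nat.card_congr (Subgroup.subgroupOfEquivOfLe inf_le_right).toEquiv
    have hinfN : Nat.card ↥(N ⊓ commutator G) = p := by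
      have hdvd := Subgroup.card_dvd_of_le (inf_le_left : N ⊓ commutator G ≤ N)
      rw [hcardN] at hdvd
      rcases (Nat.dvd_prime hp.out).1 hdvd with h | h
      · exact absurd (by rw [hmul, hq, h, mul_one]) hne
      · exact h
    have hNle : N ≤ commutator G := by
      have := Subgroup.eq_of_le_of_card_ge (inf_le_left : N ⊓ commutator G ≤ N) (by rw [hcardN, hinfN])
      exact this ▸ inf_le_right
    exact ⟨N, hnorm, rfl, hcardN, hNle, by rw [hmul, hq, hinfN], hq⟩
  -- kernels
  have hkerP : ∀ (N : Subgroup G), Nat.card N = p → N ≤ commutator G → Nat.card (commutator G) = p * p →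
      ∀ χ : IrrCharacter G, charDegree (χ : G → ℂ) ≠ 1 → (∀ m ∈ N, (χ : G → ℂ) m = (χ : G → ℂ) 1) →
      ∀ x ∈ commutator G, (χ : G → ℂ) x = (χ : G → ℂ) 1 → x ∈ N := by
    intro N hNc hNle hcc χ hd hker x hx hxk
    obtain ⟨c, hc, hcne⟩ := (nonlinear_iff χ.2).1 hd
    let K := charKer _ (isCharacter_of_irr χ.2) ⊓ commutator G
    have hNK : N ≤ K := fun m hm => ⟨hker m hm, hNle hm⟩
    have hKlt : K ≠ commutator G := fun e => hcne ((e.symm ▸ hc : c ∈ K).1)
    have hKc : Nat.card K ∣ p ^ 2 := sq p ▸ hcc ▸ Subgroup.card_dvd_of_le inf_le_right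
    obtain ⟨i, hi, hKi⟩ := (Nat.dvd_prime_pow hp.out).1 hKc
    have hKp : Nat.card K ≤ Nat.card N := by
      rw [hNc, hKi]
      have hi2 : i ≠ 2 := fun e => hKlt (Subgroup.eq_of_le_of_card_ge inf_le_right
        (by rw [hcc, hKi, e, sq]))
      calc p ^ i ≤ p ^ 1 := Nat.pow_le_pow_right hp.out.pos (by omega)
        _ = p := pow_one p
    exact (Subgroup.eq_of_le_of_card_ge hNK hKp).symm ▸ (⟨hxk, hx⟩ : x ∈ K)
  have hcopG : ∀ {k : ℕ}, k.Coprime (Nat.card G) → k.Coprime p := by
    intro k hk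
    refine hk.coprime_dvd_right ?_
    obtain ⟨m, hm⟩ := IsPGroup.iff_card.1 hG
    rw [hm]
    refine dvd_pow_self p fun h0 => hna fun a b => ?_
    rw [h0, pow_zero, Nat.card_eq_one_iff_unique] at hm
    obtain ⟨hsub, -⟩ := hm
    exact Subsingleton.elim _ _
  have hpow : ∀ {N : Subgroup G} {z : G} {k : ℕ}, z ^ p = 1 → k.Coprime p → z ^ k ∈ N → z ∈ N := by
    intro N z k hzp hk h
    obtain ⟨m, hm⟩ := exists_pow_eq_self_of_coprime (hk.coprime_dvd_right (orderOf_dvd_of_pow_eq_one hzp))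
    exact hm ▸ N.pow_mem h m
  haveI : Nontrivial G := by
    rcases subsingleton_or_nontrivial G with h | h
    · exact absurd (fun a b => Subsingleton.elim _ _) hna
    · exact h
  haveI := hG.center_nontrivial
  obtain ⟨z₁, hz₁⟩ := exists_prime_orderOf_dvd_card' (G := Subgroup.center G) p (by
    obtain ⟨m, hm⟩ := IsPGroup.iff_card.1 (hG.to_subgroup (Subgroup.center G))
    rw [hm]
    exact dvd_pow_self p fun h0 => Finite.one_lt_card.ne' (by rw [hm, h0, pow_zero]))
  have hz1p : (z₁ : G) ^ p = 1 := by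
    rw [← SubmonoidClass.coe_pow, ← hz₁, pow_orderOf_eq_one, OneMemClass.coe_one]
  have hz1ne : (z₁ : G) ≠ 1 := fun e => hp.out.one_lt.ne (by rw [← hz₁, ← Subgroup.orderOf_coe, e, orderOf_one])
  obtain ⟨N, hNn, hNdef, hNc, hNle, hcc, hq⟩ := hN z₁ z₁.2 hz1p hz1ne
  have hcycQ : IsCyclic (Subgroup.center (G ⧸ N)) := center_cyclic (hG.to_quotient N) (hgal.quotient N) hq
  obtain ⟨χ, D, δ, hχd, hχD, hχN, hδ, hidx, hexp⟩ := quotient_data hG N hNc hcycQ hq
  by_cases hu : ∀ z ∈ Subgroup.center G, z ^ p = 1 → z ∈ N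
  swap
  · -- two central subgroups of order `p`
    push Not at hu
    obtain ⟨z₂, hz₂, hz₂p, hz₂N⟩ := hu
    have hz₂1 : z₂ ≠ 1 := fun e => hz₂N (e ▸ one_mem N)
    obtain ⟨N₂, hN₂n, hN₂def, hN₂c, hN₂le, -, hq₂⟩ := hN z₂ hz₂ hz₂p hz₂1
    obtain ⟨χ₂, D₂, δ₂, hχ₂d, hχ₂D, hχ₂N, hδ₂, hidx₂, -⟩ :=
      quotient_data hG N₂ hN₂c (center_cyclic (hG.to_quotient N₂) (hgal.quotient N₂) hq₂) hq₂
    have he := Nat.pow_right_injective hp.out.two_le (hidx.symm.trans hidx₂)
    obtain ⟨k, hk, hkg⟩ := hgal χ χ₂ hχd (by rw [hχD, hχ₂D]; congr 1; omega)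
    have hmem : z₂ ∈ N₂ := hN₂def ▸ Subgroup.mem_zpowers z₂
    have h1 : (χ : G → ℂ) (z₂ ^ k) = (χ : G → ℂ) 1 := by
      rw [← hkg, hχ₂N _ hmem, hkg, one_pow]
    exact hz₂N (hpow hz₂p (hcopG hk)
      (hkerP N hNc hNle hcc χ hχd hχN _ (Subgroup.pow_mem _ (hN₂le hmem) k) h1))
  · -- a unique central subgroup of order `p`
    have hcycZ : IsCyclic (Subgroup.center G) := by
      refine RankOneP.isCyclic_of_commute (hG.to_subgroup _) (fun x y hx hy hx1 => ?_)
        (fun x y => Subtype.ext (Subgroup.mem_center_iff.1 x.2 y).symm)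
      have hx' := hu x.1 x.2 (congrArg Subtype.val hx)
      have hy' := hu y.1 y.2 (congrArg Subtype.val hy)
      obtain ⟨i, hi⟩ := mem_zpowers_of_prime_card hNc (g := (⟨x.1, hx'⟩ : N)) (g' := ⟨y.1, hy'⟩)
        (fun e => hx1 (Subtype.ext (show x.1 = 1 from congrArg Subtype.val e)))
      exact ⟨i, Subtype.ext (show x.1 ^ i = y.1 from congrArg Subtype.val hi)⟩
    obtain ⟨z0, hz0⟩ := hcycZ.exists_generator
    obtain ⟨χ₀, hχ₀⟩ := exists_apply_ne hz1ne
    have hχ₀1 : (χ₀ : G → ℂ) 1 ≠ 0 := apply_one_ne_zero χ₀.2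
    let ω : Subgroup.center G →* ℂ :=
      { toFun := fun z => (χ₀ : G → ℂ) z / (χ₀ : G → ℂ) 1
        map_one' := div_self hχ₀1
        map_mul' := fun a b => by
          rw [Subgroup.coe_mul, div_mul_div_comm, ← center_mul χ₀.2 a.2, mul_div_mul_left _ _ hχ₀1] }
    have hωker : ∀ z : Subgroup.center G, ω z = 1 → z = 1 := by
      intro z hz
      by_contra hz1
      have hmem : (z : G) ∈ charKer _ (isCharacter_of_irr χ₀.2) := by
        rw [mem_charKer]; exact (div_eq_one_iff_eq hχ₀1).1 hz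
      have hzne : (z : G) ≠ 1 := fun e => hz1 (Subtype.ext e)
      obtain ⟨m, hm⟩ := IsPGroup.iff_orderOf.1 hG (z : G)
      obtain ⟨m, rfl⟩ := Nat.exists_eq_add_one_of_ne_zero (n := m) (fun h0 => hzne (by
        rw [h0, pow_zero, orderOf_eq_one_iff] at hm; exact hm))
      have hw : ((z : G) ^ p ^ m) ^ p = 1 := by rw [← pow_mul, ← pow_succ, ← hm, pow_orderOf_eq_one]
      have hwne : (z : G) ^ p ^ m ≠ 1 := fun e => by
        have := Nat.le_of_dvd (pow_pos hp.out.pos m) (orderOf_dvd_of_pow_eq_one e)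
        rw [hm] at this
        exact absurd this (not_le.2 (Nat.pow_lt_pow_right hp.out.one_lt (Nat.lt_succ_self m)))
      have hwN := hu _ (Subgroup.pow_mem _ z.2 _) hw
      have hgen := mem_zpowers_of_prime_card hNc (g := (⟨_, hwN⟩ : N))
        (g' := ⟨(z₁ : G), hNdef ▸ Subgroup.mem_zpowers _⟩) (fun e => hwne (congrArg Subtype.val e))
      obtain ⟨i, hi⟩ := hgen
      apply hχ₀
      rw [← show ((z : G) ^ p ^ m) ^ i = (z₁ : G) from congrArg Subtype.val hi]
      exact (Subgroup.zpow_mem _ (Subgroup.pow_mem _ hmem _) i :)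
    have hωunit : ∀ z, ω z * conj (ω z) = 1 := by
      intro z
      show (χ₀ : G → ℂ) z / _ * conj ((χ₀ : G → ℂ) z / _) = 1
      rw [map_div₀, apply_one (isCharacter_of_irr χ₀.2), Complex.conj_natCast, div_mul_div_comm,
        center_normSq χ₀.2 z.2, apply_one (isCharacter_of_irr χ₀.2), div_self]
      exact mul_ne_zero (Nat.cast_ne_zero.2 (charDegree_pos χ₀.2).ne') (Nat.cast_ne_zero.2 (charDegree_pos χ₀.2).ne')
    haveI := finite_irrCharacter (G := G)
    haveI := Fintype.ofFinite (IrrCharacter G)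
    haveI := Fintype.ofFinite (Subgroup.center G)
    let X := Finset.univ.filter fun ψ : IrrCharacter G =>
      ∀ z : Subgroup.center G, (ψ : G → ℂ) z = (ψ : G → ℂ) 1 * ω z
    have hsum : ∑ ψ ∈ X, charDegree (ψ : G → ℂ) ^ 2 = (Subgroup.center G).index := by
      have hind : ∀ ψ : IrrCharacter G, ∑ z : Subgroup.center G, conj (ω z) * (ψ : G → ℂ) z =
          if ψ ∈ X then (Nat.card (Subgroup.center G) : ℂ) * (ψ : G → ℂ) 1 else 0 := by
        intro ψ
        by_cases hψ : ψ ∈ X
        · rw [if_pos hψ, Finset.sum_congr rfl (g := fun _ => (ψ : G → ℂ) 1) fun z _ => ?_, Finset.sum_const,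
            Finset.card_univ, nsmul_eq_mul, Nat.card_eq_fintype_card]
          rw [(Finset.mem_filter.1 hψ).2 z]
          linear_combination (ψ : G → ℂ) 1 * hωunit z
        · rw [if_neg hψ]
          simp only [X, Finset.mem_filter, Finset.mem_univ, true_and, not_forall] at hψ
          obtain ⟨w, hw⟩ := hψ
          have hr : conj (ω w) * (ψ : G → ℂ) w ≠ (ψ : G → ℂ) 1 := fun e => hw (by
            have h1 := hωunit w
            linear_combination ω w * e - (ψ : G → ℂ) w * h1)
          have hs : (ψ : G → ℂ) 1 * ∑ z : Subgroup.center G, conj (ω z) * (ψ : G → ℂ) z =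
              conj (ω w) * (ψ : G → ℂ) w * ∑ z : Subgroup.center G, conj (ω z) * (ψ : G → ℂ) z := by
            rw [Finset.mul_sum, Finset.mul_sum]
            conv_lhs => rw [← Equiv.sum_comp (Equiv.mulLeft w)]
            refine Finset.sum_congr rfl fun z _ => ?_
            simp only [Equiv.coe_mulLeft, map_mul, Subgroup.coe_mul]
            linear_combination conj (ω w) * conj (ω z) * center_mul ψ.2 w.2 (z : G)
          by_contra h0
          exact hr (mul_right_cancel₀ h0 hs).symm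
      have h1 : ∑ ψ : IrrCharacter G, conj ((ψ : G → ℂ) 1) *
          ∑ z : Subgroup.center G, conj (ω z) * (ψ : G → ℂ) z = (Nat.card G : ℂ) := by
        simp only [Finset.mul_sum]
        rw [Finset.sum_comm, Finset.sum_eq_single (1 : Subgroup.center G) (fun z _ hz => ?_)
          (fun h => absurd (Finset.mem_univ _) h)]
        · rw [map_one, map_one]
          simp only [one_mul, OneMemClass.coe_one]
          rw [Finset.sum_congr rfl (g := fun ψ : IrrCharacter G => (ψ : G → ℂ) 1 * conj ((ψ : G → ℂ) 1))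
            (fun ψ _ => mul_comm _ _), sum_col, if_pos (IsConj.refl 1)]
          exact congrArg Nat.cast (Nat.card_congr (Equiv.subtypeUnivEquiv fun x => by
            simp [Subgroup.mem_centralizer_singleton_iff]))
        · rw [Finset.sum_congr rfl (g := fun ψ : IrrCharacter G => conj (ω z) * ((ψ : G → ℂ) z * conj ((ψ : G → ℂ) 1)))
            (fun ψ _ => by ring), ← Finset.mul_sum, sum_col,
            if_neg (fun h => hz (Subtype.ext (isConj_one_left.1 h))), mul_zero]
      simp only [hind, mul_ite, mul_zero] at h1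
      rw [← Finset.sum_filter, show Finset.univ.filter (fun ψ => ψ ∈ X) = X by ext; simp] at h1
      simp only [apply_one (isCharacter_of_irr (Subtype.prop _)), Complex.conj_natCast, ← Nat.cast_mul] at h1
      rw [← Nat.cast_sum, Nat.cast_inj] at h1
      refine Nat.eq_of_mul_eq_mul_left (Nat.card_pos (α := Subgroup.center G)) ?_
      rw [Subgroup.card_mul_index, ← h1, Finset.mul_sum]
      exact Finset.sum_congr rfl fun ψ _ => by ring
    obtain ⟨c, hc⟩ := IsPGroup.iff_card.1 (hG.to_subgroup (Subgroup.center G))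
    have hc1 : c ≠ 0 := fun h0 => (Finite.one_lt_card (α := Subgroup.center G)).ne' (by rw [hc, h0, pow_zero])
    have hz0ord : orderOf z0 = p ^ c := by
      rw [← hc, ← Nat.card_zpowers, (Subgroup.eq_top_iff' _).2 hz0, Subgroup.card_top]
    have hexp' : ∀ g : G, g ^ (p ^ c * p ^ (1 + δ)) = 1 := fun g => by
      rw [mul_comm, pow_mul]
      have := Subgroup.orderOf_dvd_natCard _ (hexp g)
      rw [hc] at this
      exact orderOf_dvd_iff_pow_eq_one.1 this
    obtain ⟨m, hm⟩ := IsPGroup.iff_card.1 hG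
    choose lg hlg using fun ψ : IrrCharacter G => (Nat.dvd_prime_pow hp.out).1 (hm ▸ degree_dvd ψ)
    have hXd : ∀ ψ ∈ X, charDegree (ψ : G → ℂ) ≠ 1 ∧ lg ψ < D := by
      intro ψ hψ
      have hψ' := (Finset.mem_filter.1 hψ).2
      have hne1 : (ψ : G → ℂ) (z₁ : G) ≠ (ψ : G → ℂ) 1 := fun e => by
        rw [hψ' z₁, mul_eq_left₀ (apply_one_ne_zero ψ.2)] at e
        exact hz1ne (congrArg Subtype.val (hωker z₁ e))
      have hnl : charDegree (ψ : G → ℂ) ≠ 1 := (nonlinear_iff ψ.2).2
        ⟨z₁, hNle (hNdef ▸ Subgroup.mem_zpowers _), hne1⟩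
      refine ⟨hnl, ?_⟩
      have hle : charDegree (ψ : G → ℂ) ^ 2 ≤ p ^ (2 * D + δ) := by
        rw [← hidx, ← hsum]
        exact Finset.single_le_sum (f := fun φ : IrrCharacter G => charDegree (φ : G → ℂ) ^ 2)
          (fun φ _ => Nat.zero_le _) hψ
      rw [(hlg ψ).2, ← pow_mul] at hle
      have hle' := (Nat.pow_le_pow_iff_right hp.out.one_lt).1 hle
      have hne2 : lg ψ ≠ D := by
        intro e
        obtain ⟨k, hk, hkg⟩ := hgal ψ χ hnl (by rw [(hlg ψ).2, hχD, e])
        have h1 : (ψ : G → ℂ) ((z₁ : G) ^ k) = (ψ : G → ℂ) 1 := by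
          rw [← hkg, hχN _ (hNdef ▸ Subgroup.mem_zpowers _), hkg, one_pow]
        exact hne1 (hpow (N := charKer _ (isCharacter_of_irr ψ.2)) hz1p (hcopG hk) h1)
      omega
    have hfib : ∀ i, (X.filter fun ψ => lg ψ = i).card ≤ p ^ (1 + δ) := by
      intro i
      rcases (X.filter fun ψ => lg ψ = i).eq_empty_or_nonempty with he | ⟨φ, hφ⟩
      · rw [he, Finset.card_empty]; exact Nat.zero_le _
      obtain ⟨hφX, hφi⟩ := Finset.mem_filter.1 hφ
      have hkey : ∀ ψ ∈ X.filter (fun ψ => lg ψ = i), ∃ j : Fin (p ^ (1 + δ)),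
          ∀ g : G, (ψ : G → ℂ) g = (φ : G → ℂ) (g ^ (1 + p ^ c * j.1)) := by
        intro ψ hψ
        obtain ⟨hψX, hψi⟩ := Finset.mem_filter.1 hψ
        obtain ⟨k, hk, hkg⟩ := hgal φ ψ (hXd φ hφX).1 (by rw [(hlg φ).2, (hlg ψ).2, hφi, hψi])
        have hk1 : z0 ^ k = z0 := by
          have h1 := hkg (z0 : G)
          rw [← SubmonoidClass.coe_pow, (Finset.mem_filter.1 hψX).2, (Finset.mem_filter.1 hφX).2] at h1
          have hd : (ψ : G → ℂ) 1 = (φ : G → ℂ) 1 := by
            rw [apply_one (isCharacter_of_irr ψ.2), apply_one (isCharacter_of_irr φ.2), (hlg φ).2, (hlg ψ).2, hφi, hψi]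
          rw [hd] at h1
          have h2 : ω z0 = ω (z0 ^ k) := mul_left_cancel₀ (apply_one_ne_zero φ.2) h1
          have h3 : ω (z0 ^ k * z0⁻¹) = 1 := by rw [map_mul, ← h2, ← map_mul, mul_inv_cancel, map_one]
          exact mul_inv_eq_one.1 (hωker _ h3)
        have hmod : k ≡ 1 [MOD p ^ c] := hz0ord ▸ pow_eq_pow_iff_modEq.1 (by rw [hk1, pow_one])
        have hkpos : 1 ≤ k := by
          by_contra h0
          have hk0 : k = 0 := by omega
          have h3 := (hcopG hk)
          rw [hk0, Nat.coprime_zero_left] at h3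
          exact hp.out.one_lt.ne' h3
        obtain ⟨q, hq⟩ := (Nat.modEq_iff_dvd' hkpos).1 hmod.symm
        refine ⟨⟨q % p ^ (1 + δ), Nat.mod_lt _ (pow_pos hp.out.pos _)⟩, fun g => ?_⟩
        rw [hkg g]
        congr 1
        have hk' : k = 1 + p ^ c * (q % p ^ (1 + δ)) + p ^ c * p ^ (1 + δ) * (q / p ^ (1 + δ)) := by
          have := Nat.mod_add_div q (p ^ (1 + δ))
          calc k = 1 + p ^ c * q := by omega
            _ = _ := by conv_lhs => rw [← this]
                        ring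
        rw [hk', pow_add, pow_mul, hexp', one_pow, mul_one]
      choose j hj using hkey
      calc (X.filter fun ψ => lg ψ = i).card = (X.filter fun ψ => lg ψ = i).attach.card := Finset.card_attach.symm
        _ ≤ (Finset.univ : Finset (Fin (p ^ (1 + δ)))).card :=
          Finset.card_le_card_of_injOn (fun ψ => j ψ.1 ψ.2) (fun _ _ => Finset.mem_univ _) fun a _ b _ h =>
            Subtype.ext (Subtype.ext (funext fun g => by rw [hj a.1 a.2, hj b.1 b.2]; simp only at h; rw [h]))
        _ = _ := by rw [Finset.card_univ, Fintype.card_fin]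
    have hbound : (Subgroup.center G).index ≤ p ^ (1 + δ) * ∑ i ∈ Finset.range D, p ^ (2 * i) := by
      rw [← hsum, ← Finset.sum_fiberwise_of_maps_to (g := lg) (t := Finset.range D)
        (fun ψ hψ => Finset.mem_range.2 (hXd ψ hψ).2), Finset.mul_sum]
      refine Finset.sum_le_sum fun i _ => ?_
      rw [Finset.sum_congr rfl (g := fun _ => p ^ (2 * i)) fun ψ hψ => ?_, Finset.sum_const, smul_eq_mul]
      · exact Nat.mul_le_mul_right _ (hfib i)
      · rw [(hlg ψ).2, (Finset.mem_filter.1 hψ).2, ← pow_mul, mul_comm i]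
    rw [hidx, pow_add, pow_add, pow_one, mul_comm (p ^ (2 * D)), mul_comm p (p ^ δ), mul_assoc] at hbound
    have hb := Nat.le_of_mul_le_mul_left hbound (pow_pos hp.out.pos δ)
    have hgeo : ∀ E, (p ^ 2 - 1) * (∑ i ∈ Finset.range E, p ^ (2 * i)) + 1 = p ^ (2 * E) := by
      intro E
      induction E with
      | zero => simp
      | succ E ihE =>
        obtain ⟨t, ht⟩ : ∃ t, p ^ 2 = t + 1 := ⟨p ^ 2 - 1, (Nat.sub_add_cancel (Nat.one_le_pow _ _ hp.out.pos)).symm⟩
        rw [Finset.sum_range_succ, mul_add, show 2 * (E + 1) = 2 * E + 2 by ring, pow_add, ← ihE]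
        rw [ht, Nat.add_sub_cancel]
        ring
    have h1 := hgeo D
    have h2 : p ≤ p ^ 2 - 1 := by
      have := hp.out.two_le
      have : 2 * p ≤ p ^ 2 := by rw [sq]; exact Nat.mul_le_mul_right p this
      omega
    have h3 := Nat.mul_le_mul_right (∑ i ∈ Finset.range D, p ^ (2 * i)) h2
    omega

theorem gal_of_cyclic [Finite G] {p : ℕ} [hp : Fact p.Prime] (hG : IsPGroup p G)
    (hcyc : IsCyclic (Subgroup.center G)) (hcard : Nat.card (commutator G) = p) : GalProp G := by
  classical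
  obtain ⟨hle, hfacts⟩ := derived_prime_facts hG hcard
  intro χ ψ hd hdd
  obtain ⟨hχd, hχv⟩ := hfacts χ hd
  obtain ⟨hψd, hψv⟩ := hfacts ψ (hdd ▸ hd)
  obtain ⟨z0, hz0⟩ := hcyc.exists_generator
  obtain ⟨c0, hc0, hc01⟩ := (commutator G).bot_or_exists_ne_one.resolve_left (fun e => by
    rw [e, Subgroup.card_bot] at hcard; exact hp.out.one_lt.ne hcard)
  obtain ⟨m, hm⟩ := IsPGroup.iff_card.1 hG
  have hzord : 0 < orderOf z0 := orderOf_pos z0
  have hroot : ∀ φ : IrrCharacter G, charDegree (φ : G → ℂ) ≠ 1 →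
      ∃ f : Subgroup.center G →* ℂ, (∀ z : Subgroup.center G, (φ : G → ℂ) z = (φ : G → ℂ) 1 * f z) ∧
        IsPrimitiveRoot (f z0) (orderOf z0) := by
    intro φ hφ
    have hφ1 : (φ : G → ℂ) 1 ≠ 0 := apply_one_ne_zero φ.2
    let f : Subgroup.center G →* ℂ :=
      { toFun := fun z => (φ : G → ℂ) z / (φ : G → ℂ) 1
        map_one' := div_self hφ1
        map_mul' := fun a b => by
          rw [Subgroup.coe_mul, div_mul_div_comm, ← center_mul φ.2 a.2, mul_div_mul_left _ _ hφ1] }
    refine ⟨f, fun z => (mul_div_cancel₀ _ hφ1).symm, ?_⟩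
    refine ⟨by rw [← map_pow, pow_orderOf_eq_one, map_one], fun l hl => ?_⟩
    rw [← map_pow] at hl
    by_contra hndvd
    have hne : z0 ^ l ≠ 1 := fun e => hndvd (orderOf_dvd_of_pow_eq_one e)
    obtain ⟨c, hc, hcne⟩ := (nonlinear_iff φ.2).1 hφ
    obtain ⟨i, hi⟩ := IsPGroup.iff_orderOf.1 (hG.to_subgroup (Subgroup.center G)) (z0 ^ l)
    obtain ⟨i, rfl⟩ := Nat.exists_eq_add_one_of_ne_zero (n := i) (fun h0 => hne (by
      rw [h0, pow_zero, orderOf_eq_one_iff] at hi; exact hi))
    set w := (z0 ^ l) ^ p ^ i with hw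
    have hwp : w ^ p = 1 := by rw [hw, ← pow_mul, ← pow_succ, ← hi, pow_orderOf_eq_one]
    have hw1 : w ≠ 1 := fun e => by
      have := Nat.le_of_dvd (pow_pos hp.out.pos i) (orderOf_dvd_of_pow_eq_one e)
      rw [hi] at this
      exact absurd this (not_le.2 (Nat.pow_lt_pow_right hp.out.one_lt (Nat.lt_succ_self i)))
    haveI := hcyc
    have hgen : (⟨c, hle hc⟩ : Subgroup.center G) ∈ Subgroup.zpowers w := by
      haveI := Fintype.ofFinite (Subgroup.center G)
      have hS : (Finset.univ.filter fun x : Subgroup.center G => x ^ p = 1).card ≤ p :=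
        IsCyclic.card_pow_eq_one_le hp.out.pos
      have hsub : (Finset.univ.filter fun x : Subgroup.center G => x ∈ Subgroup.zpowers w) ⊆
          Finset.univ.filter fun x : Subgroup.center G => x ^ p = 1 := fun x hx => by
        obtain ⟨j, rfl⟩ := (Finset.mem_filter.1 hx).2
        exact Finset.mem_filter.2 ⟨Finset.mem_univ _, by
          show (w ^ j) ^ p = 1
          rw [← zpow_natCast, ← zpow_mul, mul_comm, zpow_mul, zpow_natCast, hwp, one_zpow]⟩
      have heq := Finset.eq_of_subset_of_card_le hsub (hS.trans_eq (by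
        rw [← Fintype.card_subtype, ← Nat.card_eq_fintype_card]
        exact ((Nat.card_zpowers w).trans (orderOf_eq_prime hwp hw1)).symm))
      have hcp : (⟨c, hle hc⟩ : Subgroup.center G) ^ p = 1 :=
        Subtype.ext (orderOf_dvd_iff_pow_eq_one.1 (hcard ▸ Subgroup.orderOf_dvd_natCard _ hc))
      have hmem : (⟨c, hle hc⟩ : Subgroup.center G) ∈ Finset.univ.filter fun x : Subgroup.center G => x ^ p = 1 :=
        Finset.mem_filter.2 ⟨Finset.mem_univ _, hcp⟩
      rw [← heq] at hmem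
      exact (Finset.mem_filter.1 hmem).2
    obtain ⟨j, hj⟩ := hgen
    apply hcne
    have hker : (z0 ^ l : Subgroup.center G).1 ∈ charKer _ (isCharacter_of_irr φ.2) :=
      (div_eq_one_iff_eq hφ1).1 hl
    rw [← show (w ^ j : Subgroup.center G).1 = c from congrArg Subtype.val hj]
    show _ ∈ charKer _ (isCharacter_of_irr φ.2)
    simp only [hw, SubgroupClass.coe_zpow, SubmonoidClass.coe_pow] at hker ⊢
    exact Subgroup.zpow_mem _ (Subgroup.pow_mem _ hker _) j
  obtain ⟨f, hf, hfr⟩ := hroot χ hd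
  obtain ⟨f', hf', hfr'⟩ := hroot ψ (hdd ▸ hd)
  haveI : NeZero (orderOf z0) := ⟨hzord.ne'⟩
  obtain ⟨k, -, hkc, hk⟩ := hfr.isPrimitiveRoot_iff.1 hfr'
  have hkG : k.Coprime (Nat.card G) := by
    have hpd : p ∣ orderOf z0 := by
      have h1 : Nat.card (commutator G) ∣ Nat.card (Subgroup.center G) := Subgroup.card_dvd_of_le hle
      rw [hcard] at h1
      rwa [← Nat.card_zpowers, (Subgroup.eq_top_iff' _).2 hz0, Subgroup.card_top]
    rw [hm]; exact (hkc.coprime_dvd_right hpd).pow_right m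
  refine ⟨k, hkG, fun g => ?_⟩
  by_cases hg : g ∈ Subgroup.center G
  · obtain ⟨i, hi⟩ := hz0 ⟨g, hg⟩
    have hff : ∀ z : Subgroup.center G, f' z = f (z ^ k) := by
      intro z
      obtain ⟨i, rfl⟩ := hz0 z
      have : (f'.toHomUnits z0 : ℂˣ) = (f.toHomUnits z0) ^ k := Units.ext (by simp [hk])
      have h2 := congrArg (fun w : ℂˣ => ((w ^ i : ℂˣ) : ℂ)) this
      simp only [← map_pow, ← map_zpow, MonoidHom.coe_toHomUnits] at h2
      rw [← zpow_natCast, ← zpow_mul, mul_comm, zpow_mul, zpow_natCast]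
      exact h2
    have h3 := hf' ⟨g, hg⟩
    have h4 := hf (⟨g, hg⟩ ^ k)
    rw [h3, hff, apply_one (isCharacter_of_irr ψ.2), ← hdd, ← apply_one (isCharacter_of_irr χ.2), ← h4]
    rfl
  · rw [hψv g hg, hχv _ fun h => hg ?_]
    obtain ⟨l, hl⟩ := exists_pow_eq_self_of_coprime (hkG.coprime_dvd_right (orderOf_dvd_natCard g))
    exact hl ▸ Subgroup.pow_mem _ h l

end CfsgLib.GaloisDegree
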